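import Cfsg.Agent.H641.RV.Theta
import Cfsg.Agent.H641.RV.LinA

/-!
# TEAM RV, R5 for `³D₄(q)`: isometries commuting with the long `SL₂` (helper641)
-/

set_option autoImplicit false

namespace Cfsg.Agent.H641.RV

open Matrix Cfsg.Lie Cfsg.Agent.ChevalleyStructure Cfsg.Agent.ChevalleyStructure.D4U
  Cfsg.Agent.ChevalleyStructure.OrthHyp
  Cfsg.Agent.ChevalleyStructure.OrthLie Cfsg.Agent.ChevalleyStructure.OrthD4Def Cfsg.Agent.Lib.SL2Mat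
  Cfsg.Agent.Cit.HexBase

variable {K : Type*} [Field K]

theorem comm_scalar {A B : Matrix (Fin 2) (Fin 2) K} (h : A * B ≠ B * A) (f : (Fin 2 → K) →ₗ[K] (Fin 2 → K))
    (hA : ∀ v, f (A *ᵥ v) = A *ᵥ f v) (hB : ∀ v, f (B *ᵥ v) = B *ᵥ f v) : ∃ α : K, ∀ v, f v = α • v := by
  have h1 : ∀ C : Matrix (Fin 2) (Fin 2) K, (∀ v, f (C *ᵥ v) = C *ᵥ f v) →
      LinearMap.toMatrix' f * C = C * LinearMap.toMatrix' f := by
    intro C hC
    have e1 : f ∘ₗ Matrix.toLin' C = Matrix.toLin' C ∘ₗ f := LinearMap.ext fun v => by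
      simp only [LinearMap.comp_apply, Matrix.toLin'_apply]
      exact hC v
    have e2 := congrArg LinearMap.toMatrix' e1
    rw [LinearMap.toMatrix'_comp, LinearMap.toMatrix'_comp, LinearMap.toMatrix'_toLin'] at e2
    exact e2
  obtain ⟨h01, h10, h00⟩ := scalar_of_comm h (h1 A hA) (h1 B hB)
  refine ⟨LinearMap.toMatrix' f 0 0, fun v => ?_⟩
  have e3 : f v = LinearMap.toMatrix' f *ᵥ v := by rw [← Matrix.toLin'_apply, Matrix.toLin'_toMatrix']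
  rw [e3]
  clear e3
  generalize LinearMap.toMatrix' f = N at h01 h10 h00
  ext i
  fin_cases i
  · simp [Matrix.mulVec, dotProduct, Fin.sum_univ_two, h01]
  · simp [Matrix.mulVec, dotProduct, Fin.sum_univ_two, h10, h00]

/-- first copy of the natural module -/
def pL : (Fin 2 → K) →ₗ[K] (Fin 4 ⊕ Fin 4 → K) where
  toFun v := Sum.elim ![0, v 0, -(v 1), 0] ![0, 0, 0, 0]
  map_add' u v := by
    ext i; rcases i with i | i <;> fin_cases i <;> simp <;> ring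
  map_smul' c v := by
    ext i; rcases i with i | i <;> fin_cases i <;> simp

/-- second copy of the natural module -/
def qL : (Fin 2 → K) →ₗ[K] (Fin 4 ⊕ Fin 4 → K) where
  toFun v := Sum.elim ![0, 0, 0, 0] ![0, v 1, v 0, 0]
  map_add' u v := by
    ext i; rcases i with i | i <;> fin_cases i <;> simp
  map_smul' c v := by
    ext i; rcases i with i | i <;> fin_cases i <;> simp

/-- first coordinates -/
def pR : (Fin 4 ⊕ Fin 4 → K) →ₗ[K] (Fin 2 → K) where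
  toFun u := ![u (.inl 1), -u (.inl 2)]
  map_add' u v := by ext i; fin_cases i <;> simp <;> ring
  map_smul' c v := by ext i; fin_cases i <;> simp

/-- second coordinates -/
def qR : (Fin 4 ⊕ Fin 4 → K) →ₗ[K] (Fin 2 → K) where
  toFun u := ![u (.inr 2), u (.inr 1)]
  map_add' u v := by ext i; fin_cases i <;> simp
  map_smul' c v := by ext i; fin_cases i <;> simp

theorem pL_apply (v : Fin 2 → K) : pL v = Sum.elim ![0, v 0, -(v 1), 0] ![0, 0, 0, 0] := rfl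
theorem qL_apply (v : Fin 2 → K) : qL v = Sum.elim ![0, 0, 0, 0] ![0, v 1, v 0, 0] := rfl
theorem pR_apply (u : Fin 4 ⊕ Fin 4 → K) : pR u = ![u (.inl 1), -u (.inl 2)] := rfl
theorem qR_apply (u : Fin 4 ⊕ Fin 4 → K) : qR u = ![u (.inr 2), u (.inr 1)] := rfl

theorem pR_pL (v : Fin 2 → K) : pR (pL v) = v := by ext i; fin_cases i <;> simp [pL_apply, pR_apply]
theorem qR_qL (v : Fin 2 → K) : qR (qL v) = v := by ext i; fin_cases i <;> simp [qL_apply, qR_apply]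
theorem pR_qL (v : Fin 2 → K) : pR (qL v) = 0 := by ext i; fin_cases i <;> simp [qL_apply, pR_apply]
theorem qR_pL (v : Fin 2 → K) : qR (pL v) = 0 := by ext i; fin_cases i <;> simp [pL_apply, qR_apply]

theorem sl_act (x : SL2 K) (v : Fin 2 → K) : (x : Matrix (Fin 2) (Fin 2) K) *ᵥ v =
    ![ent x 0 0 * v 0 + ent x 0 1 * v 1, ent x 1 0 * v 0 + ent x 1 1 * v 1] := by
  ext i; fin_cases i <;> simp [Matrix.mulVec, dotProduct, Fin.sum_univ_two, ent]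

theorem th_pL (x : SL2 K) (v : Fin 2 → K) :
    (th x : Matrix (Fin 4 ⊕ Fin 4) (Fin 4 ⊕ Fin 4) K) *ᵥ pL v = pL ((x : Matrix (Fin 2) (Fin 2) K) *ᵥ v) := by
  rw [th_act, sl_act]
  ext i; rcases i with i | i <;> fin_cases i <;> simp [pL_apply] <;> ring

theorem th_qL (x : SL2 K) (v : Fin 2 → K) :
    (th x : Matrix (Fin 4 ⊕ Fin 4) (Fin 4 ⊕ Fin 4) K) *ᵥ qL v = qL ((x : Matrix (Fin 2) (Fin 2) K) *ᵥ v) := by
  rw [th_act, sl_act]
  ext i; rcases i with i | i <;> fin_cases i <;> simp [qL_apply] <;> ring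

theorem pR_th (x : SL2 K) (u : Fin 4 ⊕ Fin 4 → K) :
    pR ((th x : Matrix (Fin 4 ⊕ Fin 4) (Fin 4 ⊕ Fin 4) K) *ᵥ u) = (x : Matrix (Fin 2) (Fin 2) K) *ᵥ pR u := by
  rw [th_act, sl_act]
  ext i; fin_cases i <;> simp [pR_apply] <;> ring

theorem qR_th (x : SL2 K) (u : Fin 4 ⊕ Fin 4 → K) :
    qR ((th x : Matrix (Fin 4 ⊕ Fin 4) (Fin 4 ⊕ Fin 4) K) *ᵥ u) = (x : Matrix (Fin 2) (Fin 2) K) *ᵥ qR u := by
  rw [th_act, sl_act]
  ext i; fin_cases i <;> simp [qR_apply] <;> ring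

theorem eq_of_neg (h2 : (2 : K) ≠ 0) {u : Fin 4 ⊕ Fin 4 → K}
    (h : (th (-1 : SL2 K) : Matrix (Fin 4 ⊕ Fin 4) (Fin 4 ⊕ Fin 4) K) *ᵥ u = -u) : u = pL (pR u) + qL (qR u) := by
  have key : ∀ i, u i = -u i → u i = 0 := by
    intro i hi
    have : (2 : K) * u i = 0 := by linear_combination hi
    exact (mul_eq_zero.1 this).resolve_left h2
  rw [th_act] at h
  have h0 := key (.inl 0) (by simpa using congrFun h (.inl 0))
  have h3 := key (.inl 3) (by simpa using congrFun h (.inl 3))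
  have h4 := key (.inr 0) (by simpa using congrFun h (.inr 0))
  have h7 := key (.inr 3) (by simpa using congrFun h (.inr 3))
  ext i; rcases i with i | i <;> fin_cases i <;> simp [pL_apply, qL_apply, pR_apply, qR_apply, h0, h3, h4, h7]

theorem th_neg_pL (v : Fin 2 → K) : (th (-1 : SL2 K) : Matrix (Fin 4 ⊕ Fin 4) (Fin 4 ⊕ Fin 4) K) *ᵥ pL v = -pL v := by
  rw [th_pL, ← map_neg]
  congr 1
  rw [sl_act]
  ext i; fin_cases i <;> simp [ent]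

theorem th_neg_qL (v : Fin 2 → K) : (th (-1 : SL2 K) : Matrix (Fin 4 ⊕ Fin 4) (Fin 4 ⊕ Fin 4) K) *ᵥ qL v = -qL v := by
  rw [th_qL, ← map_neg]
  congr 1
  rw [sl_act]
  ext i; fin_cases i <;> simp [ent]

theorem Z_Z (v : Fin 4 ⊕ Fin 4 → K) : (th (-1 : SL2 K) : Matrix (Fin 4 ⊕ Fin 4) (Fin 4 ⊕ Fin 4) K) *ᵥ
    ((th (-1 : SL2 K) : Matrix (Fin 4 ⊕ Fin 4) (Fin 4 ⊕ Fin 4) K) *ᵥ v) = v := by
  rw [← act_mul, ← map_mul, neg_mul_neg, one_mul, map_one, act_one]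

/-- the permutation of the coordinates which negates `Z` -/
def sw : Fin 4 ⊕ Fin 4 ≃ Fin 4 ⊕ Fin 4 :=
  Equiv.sumCongr ((Equiv.swap 0 1).trans (Equiv.swap 2 3)) ((Equiv.swap 0 1).trans (Equiv.swap 2 3))

theorem sw_inl0 : sw (.inl 0) = .inl 1 := by decide
theorem sw_inl1 : sw (.inl 1) = .inl 0 := by decide
theorem sw_inl2 : sw (.inl 2) = .inl 3 := by decide
theorem sw_inl3 : sw (.inl 3) = .inl 2 := by decide
theorem sw_inr0 : sw (.inr 0) = .inr 1 := by decide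
theorem sw_inr1 : sw (.inr 1) = .inr 0 := by decide
theorem sw_inr2 : sw (.inr 2) = .inr 3 := by decide
theorem sw_inr3 : sw (.inr 3) = .inr 2 := by decide

theorem Z_apply (v : Fin 4 ⊕ Fin 4 → K) : (th (-1 : SL2 K) : Matrix (Fin 4 ⊕ Fin 4) (Fin 4 ⊕ Fin 4) K) *ᵥ v =
    Sum.elim ![v (.inl 0), -v (.inl 1), -v (.inl 2), v (.inl 3)]
      ![v (.inr 0), -v (.inr 1), -v (.inr 2), v (.inr 3)] := by
  rw [th_act]
  ext i; rcases i with i | i <;> fin_cases i <;> simp [ent]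

theorem Z_sw (v : Fin 4 ⊕ Fin 4 → K) : (th (-1 : SL2 K) : Matrix (Fin 4 ⊕ Fin 4) (Fin 4 ⊕ Fin 4) K) *ᵥ
    (LinearEquiv.funCongrLeft K K sw v) = -(LinearEquiv.funCongrLeft K K sw
      ((th (-1 : SL2 K) : Matrix (Fin 4 ⊕ Fin 4) (Fin 4 ⊕ Fin 4) K) *ᵥ v)) := by
  rw [Z_apply, Z_apply]
  ext i
  rcases i with i | i <;> fin_cases i <;>
    simp [LinearEquiv.funCongrLeft_apply, LinearMap.funLeft_apply, sw_inl0, sw_inl1, sw_inl2, sw_inl3,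
      sw_inr0, sw_inr1, sw_inr2, sw_inr3]

/-- **isometries commuting with the long `SL₂`** -/
theorem eight (h2 : (2 : K) ≠ 0) {t1 t2 : SL2 K} (h12 : t1 * t2 ≠ t2 * t1) {w g : GL (Fin 4 ⊕ Fin 4) K}
    (hwO : w ∈ (plusForm 4 K).O) (hw : w * g = g * th (-1)) (hc1 : w * th t1 = th t1 * w)
    (hc2 : w * th t2 = th t2 * w) (hcz : w * th (-1) = th (-1) * w) : ∃ c : K, c * c = 1 ∧ ∀ v,
      (w : Matrix (Fin 4 ⊕ Fin 4) (Fin 4 ⊕ Fin 4) K) *ᵥ v =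
        c • ((th (-1 : SL2 K) : Matrix (Fin 4 ⊕ Fin 4) (Fin 4 ⊕ Fin 4) K) *ᵥ v) := by
  have hww : w * w = 1 := by
    have h1 : w = g * th (-1) * g⁻¹ := by rw [← hw, mul_inv_cancel_right]
    have h3 : (th (-1 : SL2 K)) * th (-1) = 1 := by rw [← map_mul, neg_mul_neg, one_mul, map_one]
    calc w * w = g * (th (-1) * th (-1)) * g⁻¹ := by rw [h1]; group
      _ = 1 := by rw [h3]; group
  have hwv : ∀ v, (w : Matrix (Fin 4 ⊕ Fin 4) (Fin 4 ⊕ Fin 4) K) *ᵥ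
      ((w : Matrix (Fin 4 ⊕ Fin 4) (Fin 4 ⊕ Fin 4) K) *ᵥ v) = v := fun v => by
    rw [← act_mul, hww, act_one]
  have hcomm : ∀ (t : SL2 K), w * th t = th t * w → ∀ v, (w : Matrix (Fin 4 ⊕ Fin 4) (Fin 4 ⊕ Fin 4) K) *ᵥ
      ((th t : Matrix (Fin 4 ⊕ Fin 4) (Fin 4 ⊕ Fin 4) K) *ᵥ v) = (th t : Matrix (Fin 4 ⊕ Fin 4) (Fin 4 ⊕ Fin 4) K) *ᵥ
      ((w : Matrix (Fin 4 ⊕ Fin 4) (Fin 4 ⊕ Fin 4) K) *ᵥ v) := fun t h v => by
    rw [← act_mul, ← act_mul, h]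
  set W : (Fin 4 ⊕ Fin 4 → K) →ₗ[K] (Fin 4 ⊕ Fin 4 → K) :=
    Matrix.mulVecLin (w : Matrix (Fin 4 ⊕ Fin 4) (Fin 4 ⊕ Fin 4) K) with hW
  have hWv : ∀ v, W v = (w : Matrix (Fin 4 ⊕ Fin 4) (Fin 4 ⊕ Fin 4) K) *ᵥ v := fun v => rfl
  have h12' : (t1 : Matrix (Fin 2) (Fin 2) K) * t2 ≠ t2 * t1 := by
    intro h
    exact h12 (Subtype.ext h)
  obtain ⟨α, hα⟩ := comm_scalar h12' (pR ∘ₗ W ∘ₗ pL) (fun v => by
    simp only [LinearMap.comp_apply, hWv]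
    rw [← th_pL, hcomm t1 hc1, pR_th]) (fun v => by
    simp only [LinearMap.comp_apply, hWv]
    rw [← th_pL, hcomm t2 hc2, pR_th])
  obtain ⟨β, hβ⟩ := comm_scalar h12' (qR ∘ₗ W ∘ₗ pL) (fun v => by
    simp only [LinearMap.comp_apply, hWv]
    rw [← th_pL, hcomm t1 hc1, qR_th]) (fun v => by
    simp only [LinearMap.comp_apply, hWv]
    rw [← th_pL, hcomm t2 hc2, qR_th])
  obtain ⟨γ, hγ⟩ := comm_scalar h12' (pR ∘ₗ W ∘ₗ qL) (fun v => by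
    simp only [LinearMap.comp_apply, hWv]
    rw [← th_qL, hcomm t1 hc1, pR_th]) (fun v => by
    simp only [LinearMap.comp_apply, hWv]
    rw [← th_qL, hcomm t2 hc2, pR_th])
  obtain ⟨δ, hδ⟩ := comm_scalar h12' (qR ∘ₗ W ∘ₗ qL) (fun v => by
    simp only [LinearMap.comp_apply, hWv]
    rw [← th_qL, hcomm t1 hc1, qR_th]) (fun v => by
    simp only [LinearMap.comp_apply, hWv]
    rw [← th_qL, hcomm t2 hc2, qR_th])
  simp only [LinearMap.comp_apply, hWv] at hα hβ hγ hδ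
  have hp : ∀ v, (w : Matrix (Fin 4 ⊕ Fin 4) (Fin 4 ⊕ Fin 4) K) *ᵥ pL v = α • pL v + β • qL v := by
    intro v
    rw [eq_of_neg h2 (u := (w : Matrix (Fin 4 ⊕ Fin 4) (Fin 4 ⊕ Fin 4) K) *ᵥ pL v)
      (by rw [← hcomm _ hcz, th_neg_pL, Matrix.mulVec_neg]), hα, hβ, map_smul, map_smul]
  have hq : ∀ v, (w : Matrix (Fin 4 ⊕ Fin 4) (Fin 4 ⊕ Fin 4) K) *ᵥ qL v = γ • pL v + δ • qL v := by
    intro v
    rw [eq_of_neg h2 (u := (w : Matrix (Fin 4 ⊕ Fin 4) (Fin 4 ⊕ Fin 4) K) *ᵥ qL v)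
      (by rw [← hcomm _ hcz, th_neg_qL, Matrix.mulVec_neg]), hγ, hδ, map_smul, map_smul]
  have e1 := hwv (pL ![1, 0])
  rw [hp, Matrix.mulVec_add, Matrix.mulVec_smul, Matrix.mulVec_smul, hp, hq] at e1
  have e2 := hwv (qL ![1, 0])
  rw [hq, Matrix.mulVec_add, Matrix.mulVec_smul, Matrix.mulVec_smul, hp, hq] at e2
  have f1 := congrFun e1 (.inl 1)
  have f2 := congrFun e1 (.inr 2)
  have f3 := congrFun e2 (.inl 1)
  have f4 := (plusForm 4 K).B_act hwO (pL ![1, 0]) (qL ![0, 1])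
  rw [hp, hq] at f4
  simp [pL_apply, qL_apply] at f1 f2 f3
  simp [plusForm, pL_apply, qL_apply, Fin.sum_univ_four] at f4
  obtain ⟨hb, hc, hd, ha⟩ := sign_cases (α := α) (β := β) (γ := γ) (δ := δ) h2 (by linear_combination f1)
    (by linear_combination f2) (by linear_combination f3) (by linear_combination f4)
  subst hb hc hd
  refine ⟨-δ, ?_, ?_⟩
  · rcases ha with rfl | rfl <;> norm_num
  let G : (Fin 4 ⊕ Fin 4 → K) ≃ₗ[K] (Fin 4 ⊕ Fin 4 → K) :=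
    LinearEquiv.ofLinear (Matrix.mulVecLin (g : Matrix (Fin 4 ⊕ Fin 4) (Fin 4 ⊕ Fin 4) K))
      (Matrix.mulVecLin ((g⁻¹ : GL (Fin 4 ⊕ Fin 4) K) : Matrix (Fin 4 ⊕ Fin 4) (Fin 4 ⊕ Fin 4) K))
      (LinearMap.ext fun v => act_act_inv g v) (LinearMap.ext fun v => act_inv_act g v)
  intro v
  rw [neg_smul]
  refine eq_smul h2 (Matrix.mulVecLin (th (-1 : SL2 K) : Matrix (Fin 4 ⊕ Fin 4) (Fin 4 ⊕ Fin 4) K)) W G
    (LinearEquiv.funCongrLeft K K sw) ?_ Z_sw Z_Z (fun v => hcomm _ hcz v) hwv ha ?_ v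
  · intro v
    show (w : Matrix (Fin 4 ⊕ Fin 4) (Fin 4 ⊕ Fin 4) K) *ᵥ ((g : Matrix (Fin 4 ⊕ Fin 4) (Fin 4 ⊕ Fin 4) K) *ᵥ v) =
      (g : Matrix (Fin 4 ⊕ Fin 4) (Fin 4 ⊕ Fin 4) K) *ᵥ
        ((th (-1 : SL2 K) : Matrix (Fin 4 ⊕ Fin 4) (Fin 4 ⊕ Fin 4) K) *ᵥ v)
    rw [← act_mul, ← act_mul, hw]
  · intro v hv
    have e3 := eq_of_neg h2 (u := v) hv
    show (w : Matrix (Fin 4 ⊕ Fin 4) (Fin 4 ⊕ Fin 4) K) *ᵥ v = δ • v
    rw [e3, Matrix.mulVec_add, hp, hq]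
    simp

end Cfsg.Agent.H641.RV
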