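import Cfsg.Agent.H807.Fx.SLTools
import Cfsg.Agent.S1067
import Cfsg.Agent.Cit.HexInv

/-!
# TEAM RV, R5 for `³D₄(q)`: 3 divides the index of the centralizer of an involution (helper641)
-/

set_option autoImplicit false

namespace Cfsg.Agent.H641.RV

open Cfsg.Lie Cfsg.Agent.Lib.SL2Mat Cfsg.Agent.Cit.HexBase Cfsg.Agent.Cit.HexBase.HexGrp

section hex

universe u

variable {E : Type*} [Field E] {σ : E ≃+* E} {L : Type u} [Group L] (c : HexGrp σ L)

/-- the product of the two commuting `SL₂` -/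
def mu : SL2 E × SL2 ↥(fx σ) →* L where
  toFun x := c.pb x.1 * c.p4 x.2
  map_one' := by rw [Prod.fst_one, Prod.snd_one, map_one, map_one, one_mul]
  map_mul' x y := by
    rw [Prod.fst_mul, Prod.snd_mul, map_mul, map_mul]
    have := c.comm_pb_p4 y.1 x.2
    calc c.pb x.1 * c.pb y.1 * (c.p4 x.2 * c.p4 y.2) = c.pb x.1 * (c.pb y.1 * c.p4 x.2) * c.p4 y.2 := by
          simp only [mul_assoc]
      _ = c.pb x.1 * (c.p4 x.2 * c.pb y.1) * c.p4 y.2 := by rw [this]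
      _ = _ := by simp only [mul_assoc]

theorem mu_apply (x : SL2 E × SL2 ↥(fx σ)) : mu c x = c.pb x.1 * c.p4 x.2 := rfl

/-- squares of elements of the centralizer are in the product -/
theorem sq_mem [Finite E] (h2 : (2 : E) ≠ 0) {g : L} (hg : g * c.z = c.z * g) : g ^ 2 ∈ (mu c).range := by
  obtain ⟨x, y, t, ht, rfl⟩ := c.mem_CZ_form h2 hg
  set τ := c.pa (dg t ht) with hτ
  -- the torus normalises the product
  have hn : ∀ m ∈ (mu c).range, τ * m * τ⁻¹ ∈ (mu c).range := by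
    rintro _ ⟨⟨a, b⟩, rfl⟩
    have hA := c.act_a t ht
    have e1 := hA.pb a
    have e2 := hA.p4 h2 b
    rw [mu_apply]
    have e3 : τ * (c.pb a * c.p4 b) * τ⁻¹ = (τ * c.pb a * τ⁻¹) * (τ * c.p4 b * τ⁻¹) := by group
    rw [e3, e1, e2]
    exact ⟨⟨_, _⟩, rfl⟩
  have hsq : τ * τ ∈ (mu c).range := by
    have e1 : τ * τ = c.pa (dg (t ^ 2) (pow_ne_zero 2 ht)) := by
      rw [hτ, ← map_mul, dg_mul_dg]
      congr 2
      rw [sq]
    rw [e1, c.pa_dg_sq t ht, ← map_inv]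
    exact ⟨⟨_, _⟩, rfl⟩
  have hm : c.pb x * c.p4 y ∈ (mu c).range := ⟨(x, y), rfl⟩
  have e : (c.pb x * c.p4 y * τ) ^ 2 = (c.pb x * c.p4 y) * (τ * (c.pb x * c.p4 y) * τ⁻¹) * (τ * τ) := by
    rw [sq]; group
  rw [e]
  exact mul_mem (mul_mem hm (hn _ hm)) hsq

/-- a subgroup of odd order of the centralizer has order dividing the order of the product of the two `SL₂` -/
theorem card_dvd [Finite E] (h2 : (2 : E) ≠ 0) {P : Subgroup L} (hP : Odd (Nat.card P))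
    (hc : ∀ g ∈ P, g * c.z = c.z * g) : Nat.card P ∣ Nat.card (SL2 E) * Nat.card (SL2 ↥(fx σ)) := by
  have hle : P ≤ (mu c).range := by
    intro g hg
    obtain ⟨k, hk⟩ := hP
    have h1 : g ^ (2 * k + 1) = 1 := by
      rw [← hk]
      exact congrArg Subtype.val (pow_card_eq_one' (x := (⟨g, hg⟩ : P)))
    have h3 : g = (g ^ 2) ^ (k + 1) := by
      rw [← pow_mul, show 2 * (k + 1) = 2 * k + 1 + 1 by ring, pow_succ, h1, one_mul]
    rw [h3]
    exact pow_mem (sq_mem c h2 (hc g hg)) _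
  have h4 : Nat.card (mu c).range ∣ Nat.card (SL2 E × SL2 ↥(fx σ)) := Subgroup.card_range_dvd (mu c)
  rw [Nat.card_prod] at h4
  exact (Subgroup.card_dvd_of_le hle).trans h4

end hex

theorem arith {q : ℕ} (hq : 1 < q) (h3 : ¬ 3 ∣ q) : ∃ k : ℕ, 3 ^ k ∣ q ^ 12 * (q ^ 2 - 1) * (q ^ 6 - 1) * (q ^ 8 + q ^ 4 + 1) ∧
    ¬ 3 ^ k ∣ (q ^ 3 * ((q ^ 3) ^ 2 - 1)) * (q * (q ^ 2 - 1)) := by
  have h1 : 1 < q ^ 2 := Nat.one_lt_pow (by norm_num) hq
  have h2 : 1 < q ^ 6 := Nat.one_lt_pow (by norm_num) hq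
  set N := (q ^ 2 - 1) * (q ^ 6 - 1) with hN
  have hN0 : N ≠ 0 := mul_ne_zero (by omega) (by omega)
  refine ⟨N.factorization 3 + 1, ?_, ?_⟩
  · have h4 : 3 ∣ q ^ 8 + q ^ 4 + 1 := by
      rw [Nat.dvd_iff_mod_eq_zero]
      have h5 : q % 3 = 1 ∨ q % 3 = 2 := by omega
      rcases h5 with h5 | h5 <;> simp [Nat.add_mod, Nat.pow_mod, h5]
    have h6 : q ^ 12 * (q ^ 2 - 1) * (q ^ 6 - 1) * (q ^ 8 + q ^ 4 + 1) = q ^ 12 * (N * (q ^ 8 + q ^ 4 + 1)) := by
      rw [hN]; ring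
    rw [h6, pow_succ]
    exact (mul_dvd_mul (Nat.ordProj_dvd N 3) h4).mul_left _
  · intro h
    have h6 : (q ^ 3 * ((q ^ 3) ^ 2 - 1)) * (q * (q ^ 2 - 1)) = q ^ 4 * N := by
      rw [hN, ← pow_mul]; ring
    rw [h6] at h
    have hco : Nat.Coprime (3 ^ (N.factorization 3 + 1)) (q ^ 4) :=
      Nat.Coprime.pow _ _ ((Nat.Prime.coprime_iff_not_dvd Nat.prime_three).2 h3)
    exact Nat.pow_succ_factorization_not_dvd hN0 Nat.prime_three (hco.dvd_of_dvd_mul_left h)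

/-- **3 divides the index of the centralizer of the involution** -/
theorem three_dvd {K : Type} [Field K] [Fintype K] {q : ℕ} (hq : IsPrimePow q) (hK : Fintype.card K = q ^ 3)
    (h2 : (2 : K) ≠ 0) (h3 : (3 : K) ≠ 0) {σ : K ≃+* K} (hσ : ∀ x, σ x = x ^ q) (c : HexGrp σ ↥(twistedD4 K q)) :
    3 ∣ (Subgroup.centralizer ({c.z} : Set ↥(twistedD4 K q))).index := by
  have : Finite ↥(twistedD4 K q) := by
    have : Finite (GL chevD4.Idx K) := inferInstance
    infer_instance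
  have hq3 : ¬ 3 ∣ q := by
    intro hd
    obtain ⟨p, hp⟩ := CharP.exists K
    have : Fact p.Prime := ⟨CharP.char_is_prime K p⟩
    obtain ⟨n, hpp, hn⟩ := FiniteField.card K p
    have h4 : 3 ∣ p ^ (n : ℕ) := by rw [← hn, hK]; exact hd.trans (dvd_pow_self q (by norm_num))
    have h5 : 3 = p := (Nat.prime_dvd_prime_iff_eq Nat.prime_three hpp).1 (Nat.prime_three.dvd_of_dvd_pow h4)
    subst h5
    have h6 := CharP.cast_eq_zero K 3
    exact h3 (by exact_mod_cast h6)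
  have hF : Nat.card ↥(fx σ) = q :=
    Cfsg.Agent.ChevalleyStructure.D4U.card_fix_field (φ := (σ : K →+* K)) hq.one_lt hK fun x => hσ x
  obtain ⟨k, hk1, hk2⟩ := arith hq.one_lt hq3
  by_contra hnd
  have hcard := S1067.result hq hK
  set C := Subgroup.centralizer ({c.z} : Set ↥(twistedD4 K q)) with hC
  have h7 : 3 ^ k ∣ Nat.card C := by
    have h8 : 3 ^ k ∣ Nat.card C * C.index := by rw [Subgroup.card_mul_index, hcard]; exact hk1
    exact (Nat.Coprime.pow_left k ((Nat.Prime.coprime_iff_not_dvd Nat.prime_three).2 hnd)).dvd_of_dvd_mul_right h8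
  have : Fact (Nat.Prime 3) := ⟨Nat.prime_three⟩
  obtain ⟨P, hP⟩ := Sylow.exists_subgroup_card_pow_prime 3 h7
  have hPc : Nat.card (P.map C.subtype) = 3 ^ k := by
    rw [← hP]
    exact Nat.card_congr (P.equivMapOfInjective C.subtype C.subtype_injective).toEquiv.symm
  have h9 := card_dvd c h2 (P := P.map C.subtype) (by
    rw [hPc]; exact Odd.pow (by decide)) (by
    rintro _ ⟨g, -, rfl⟩
    exact Subgroup.mem_centralizer_singleton_iff.1 g.2)
  rw [hPc] at h9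
  have : Fintype ↥(fx σ) := Fintype.ofFinite _
  have e1 : Nat.card (SL2 K) = Fintype.card K * (Fintype.card K ^ 2 - 1) := H807.Fx.card_SL_two
  have e2 : Nat.card (SL2 ↥(fx σ)) = Fintype.card ↥(fx σ) * (Fintype.card ↥(fx σ) ^ 2 - 1) := H807.Fx.card_SL_two
  rw [e1, e2, hK, ← Nat.card_eq_fintype_card (α := ↥(fx σ)), hF] at h9
  exact hk2 h9

end Cfsg.Agent.H641.RV
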