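import Cfsg.Agent.H641.RV.Core
import Cfsg.Agent.H641.RV.Three
import Cfsg.Agent.H574.RV.Quat
import Cfsg.Agent.H392.TD.Nat8
import Cfsg.Agent.H808.RV.Iso

/-!
# TEAM RV, R5 for `³D₄(q)` (helper641)

`not_DB_d4` : `S ≅ ³D₄(q)`, `q` a power of `p ≥ 5`, `2, 3 ∈ π`, `p ∉ π`: not `DB π S`.

Proof. Let `X ≅ SL₂(3)` be a subgroup of the long `SL₂(q)`, `H ≥ X` a Hall `π`-subgroup, `t ∈ X` of order six, `z = t³`.
On the natural module of `D₄` the conjugates of `t` satisfy `(t - 1)(t² - t + 1) = 0`, so `z ^ h` commutes with `X` for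
`h ∈ H` (helper170's theorem); the only involutions which commute with `X` are `± z`. So `z` is central in `H`, but `3`
divides `|S : C(z)|`.
-/

set_option autoImplicit false

namespace Cfsg.Agent.H641.RV

open Cfsg Cfsg.Lie Cfsg.Agent.Lib.SL2Mat Cfsg.Agent.Cit.HexBase Cfsg.Agent.Cit.HexBase.HexGrp
  Cfsg.Agent.H988.CPi Cfsg.Agent.H571.DExt Cfsg.Agent.H571.RV
open Cfsg.Agent.H574.RV (qm sm qm_det qm_rel sm_rel qm_mul sm_comm piN_braid)

/-- two elements of order six of a `{2, 3}`-subgroup which do not commute -/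
theorem exists_six {F : Type*} [Field F] [Finite F] (h2 : (2 : F) ≠ 0) {π : Set ℕ} (p2 : 2 ∈ π) (p3 : 3 ∈ π) :
    ∃ (K : Subgroup (SL2 F)) (t t' : SL2 F), PiN π (Nat.card K) ∧ t ∈ K ∧ t' ∈ K ∧
      (t : Matrix (Fin 2) (Fin 2) F) * (t : Matrix (Fin 2) (Fin 2) F) - t + 1 = 0 ∧
      (t' : Matrix (Fin 2) (Fin 2) F) * (t' : Matrix (Fin 2) (Fin 2) F) - t' + 1 = 0 ∧ t * t' ≠ t' * t := by
  obtain ⟨x, y, h⟩ : ∃ x y : F, x ^ 2 + y ^ 2 = -1 := by
    obtain ⟨p, hp⟩ := CharP.exists F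
    have hpp : Fact p.Prime := ⟨CharP.char_is_prime F p⟩
    obtain ⟨a, b, -, -, h⟩ := Nat.sq_add_sq_zmodEq p (-1)
    refine ⟨a, b, ?_⟩
    have h1 : (((a : ℤ) ^ 2 + (b : ℤ) ^ 2 : ℤ) : F) = ((-1 : ℤ) : F) :=
      (CharP.intCast_eq_intCast F p).2 h
    push_cast at h1
    exact h1
  have h' : (-x) ^ 2 + (-y) ^ 2 = -1 := by rw [neg_sq, neg_sq]; exact h
  have dn : ∀ M : Matrix (Fin 2) (Fin 2) F, M.det = 1 → (-M).det = 1 := by
    intro M hM
    rw [Matrix.det_neg, hM, Fintype.card_fin]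
    norm_num
  let a : SL2 F := ⟨-qm x y, dn _ (qm_det h2 h)⟩
  let b : SL2 F := ⟨-qm (-x) (-y), dn _ (qm_det h2 h')⟩
  let t : SL2 F := ⟨qm x y, qm_det h2 h⟩
  let t' : SL2 F := ⟨qm (-x) (-y), qm_det h2 h'⟩
  have cube : ∀ M : Matrix (Fin 2) (Fin 2) F, M * M - M + 1 = 0 → M * M * M = -1 := by
    intro M hM
    have e0 : M * M = M - 1 := by
      have : M * M = (M * M - M + 1) + (M - 1) := by noncomm_ring
      rw [this, hM, zero_add]
    rw [e0, sub_mul, one_mul, e0]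
    noncomm_ring
  have ha3 : a ^ 3 = 1 := by
    apply Subtype.ext
    have h1 : (a ^ 3).1 = -qm x y * -qm x y * -qm x y := by rw [pow_succ, sq]; rfl
    have h3 : -qm x y * -qm x y * -qm x y = -(qm x y * qm x y * qm x y) := by noncomm_ring
    rw [h1, h3, cube _ (qm_rel h2 h), neg_neg]
    rfl
  have hab : (a * b).1 = sm x y := by
    have h1 : (a * b).1 = -qm x y * -qm (-x) (-y) := rfl
    rw [h1, neg_mul_neg, qm_mul h2 h]
  have hab3 : ((a * b) ^ 3).1 = -1 := by
    have h1 : ((a * b) ^ 3).1 = (a * b).1 * (a * b).1 * (a * b).1 := by rw [pow_succ, sq]; rfl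
    rw [h1, hab, cube _ (sm_rel h2 h)]
  have hbr : a * b * a = b * a * b := by
    apply Subtype.ext
    have h1 : (a * b * a).1 = (a * b).1 * -qm x y := rfl
    have h3 : (b * a * b).1 = -qm (-x) (-y) * (a * b).1 := by rw [mul_assoc]; rfl
    rw [h1, h3, hab, mul_neg, neg_mul, sm_comm h2]
  have ht : t = (a * b) ^ 3 * a := by
    apply Subtype.ext
    have h1 : ((a * b) ^ 3 * a).1 = ((a * b) ^ 3).1 * -qm x y := rfl
    rw [h1, hab3, neg_mul_neg, one_mul]
  have ht' : t' = (a * b) ^ 3 * b := by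
    apply Subtype.ext
    have h1 : ((a * b) ^ 3 * b).1 = ((a * b) ^ 3).1 * -qm (-x) (-y) := rfl
    rw [h1, hab3, neg_mul_neg, one_mul]
  have haK : a ∈ Subgroup.closure {a, b} := Subgroup.subset_closure (Set.mem_insert a _)
  have hbK : b ∈ Subgroup.closure {a, b} := Subgroup.subset_closure (Set.mem_insert_of_mem a rfl)
  refine ⟨Subgroup.closure {a, b}, t, t', piN_braid p2 p3 ha3 hbr, ?_, ?_, qm_rel h2 h, qm_rel h2 h', ?_⟩
  · rw [ht]; exact mul_mem (pow_mem (mul_mem haK hbK) 3) haK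
  · rw [ht']; exact mul_mem (pow_mem (mul_mem haK hbK) 3) hbK
  · intro hc
    have e1 : (t * t').1 = sm x y := qm_mul h2 h
    have e2 : (t' * t).1 = sm (-x) (-y) := by
      have := qm_mul h2 h'
      rwa [neg_neg, neg_neg] at this
    rw [hc, e2] at e1
    have f0 := congrFun (congrFun e1 0) 0
    have f1 := congrFun (congrFun e1 0) 1
    simp only [sm, Matrix.of_apply, Matrix.cons_val', Matrix.cons_val_zero, Matrix.cons_val_one,
      Matrix.empty_val', Matrix.cons_val_fin_one] at f0 f1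
    field_simp at f0 f1
    have hx : (2 : F) * ((2 : F) * x) = 0 := by linear_combination -f0 - (-f1)
    have hy : (2 : F) * ((2 : F) * y) = 0 := by linear_combination -f0 + (-f1)
    have hx' := (mul_eq_zero.1 ((mul_eq_zero.1 hx).resolve_left h2)).resolve_left h2
    have hy' := (mul_eq_zero.1 ((mul_eq_zero.1 hy).resolve_left h2)).resolve_left h2
    rw [hx', hy'] at h
    norm_num at h

theorem dg_neg_one {F : Type*} [Field F] (h : (-1 : F) ≠ 0) : dg (-1 : F) h = -1 := by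
  have e : ∀ i j, ent (-1 : SL2 F) i j = -((1 : Matrix (Fin 2) (Fin 2) F) i j) := fun i j => rfl
  apply ext_ent <;> rw [e]
  · show (-1 : F) = _
    simp
  · show (0 : F) = _
    simp
  · show (0 : F) = _
    simp
  · show (-1 : F)⁻¹ = _
    simp [inv_neg]

/-- the group `³D₄(q)` -/
theorem main {K : Type} [Field K] [Fintype K] {p : ℕ} [hp : Fact p.Prime] [CharP K p] (h5 : 5 ≤ p) {q : ℕ}
    (hq : IsPrimePow q) (hK : Fintype.card K = q ^ 3) {π : Set ℕ} (p2 : 2 ∈ π) (p3 : 3 ∈ π) (pp : p ∉ π) :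
    ¬ DB π ↥(twistedD4 K q) := by
  intro hDB
  obtain ⟨σ, hσ, ⟨_⟩⟩ := Cfsg.Agent.Cit.HexD4.exists_d4 hK
  let c := Cfsg.Agent.Cit.HexD4.d4 hq hK hσ
  have nz : ∀ n : ℕ, 0 < n → n < 5 → (n : K) ≠ 0 := by
    intro n hn hn' h
    rw [CharP.cast_eq_zero_iff K p] at h
    exact absurd (Nat.le_of_dvd hn h) (by omega)
  have h2 : (2 : K) ≠ 0 := by exact_mod_cast nz 2 (by norm_num) (by norm_num)
  have h3 : (3 : K) ≠ 0 := by exact_mod_cast nz 3 (by norm_num) (by norm_num)
  have h2' : (2 : ↥(fx σ)) ≠ 0 := two_ne h2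
  have : Finite ↥(twistedD4 K q) := by
    have : Finite (GL chevD4.Idx K) := inferInstance
    infer_instance
  obtain ⟨X, t, t', hX, ht, ht', hp1, hp2, hne⟩ := exists_six h2' p2 p3
  -- the Hall subgroup
  obtain ⟨H, hH, hXH⟩ := hDB.dom (X.map c.pa) (by
    refine PiN.of_dvd hX ?_
    exact Subgroup.card_map_dvd X c.pa)
  set H' : Subgroup (GL chevD4.Idx K) := H.map (twistedD4 K q).subtype with hH'
  have hcard : Nat.card H' = Nat.card H :=
    (Nat.card_congr (H.equivMapOfInjective _ (Subgroup.subtype_injective _)).toEquiv).symm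
  have hpH : ¬ p ∣ Nat.card H' := by
    rw [hcard]
    intro hd
    exact pp (hH.1 p hp.out hd)
  have hgr : H' ≤ chevD4.group K := by
    rintro _ ⟨g, -, rfl⟩
    exact H392.TD.tw_le_group hq hK g.2
  -- the elements of order six
  let ψ : ↥(fx σ) →+* K := (fx σ).subtype
  have hmap : ∀ x : SL2 ↥(fx σ), (x : Matrix (Fin 2) (Fin 2) ↥(fx σ)) * x - x + 1 = 0 →
      ((Matrix.SpecialLinearGroup.map ψ x : SL2 K) : Matrix (Fin 2) (Fin 2) K) * (Matrix.SpecialLinearGroup.map ψ x : SL2 K) -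
        (Matrix.SpecialLinearGroup.map ψ x : SL2 K) + 1 = 0 := by
    intro x hx
    have e : ((Matrix.SpecialLinearGroup.map ψ x : SL2 K) : Matrix (Fin 2) (Fin 2) K) =
        ψ.mapMatrix (x : Matrix (Fin 2) (Fin 2) ↥(fx σ)) := rfl
    rw [e, ← map_mul, ← map_sub, ← map_one ψ.mapMatrix, ← map_add, hx, map_zero]
  have hinj : Function.Injective (Matrix.SpecialLinearGroup.map (n := Fin 2) ψ) := by
    intro a b hab
    apply Subtype.ext
    ext i j
    have := congrArg (fun z : SL2 K => (z : Matrix (Fin 2) (Fin 2) K) i j) hab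
    exact Subtype.ext_iff.1 (Subtype.ext this)
  have hmem : ∀ x ∈ X, ((c.pa x : ↥(twistedD4 K q)) : GL chevD4.Idx K) ∈ H' := fun x hx =>
    ⟨c.pa x, hXH ⟨x, hx, rfl⟩, rfl⟩
  have hrel : ∀ x : SL2 ↥(fx σ), RelK (th (Matrix.SpecialLinearGroup.map ψ x))
      ((c.pa x : ↥(twistedD4 K q)) : GL chevD4.Idx K) := fun x => rel_pa ψ x
  have key : ∀ B ∈ H', B * ((c.pa t : ↥(twistedD4 K q)) : GL chevD4.Idx K) ^ 3 =
      ((c.pa t : ↥(twistedD4 K q)) : GL chevD4.Idx K) ^ 3 * B := fun B hB =>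
    core h5 hpH hgr (t1 := Matrix.SpecialLinearGroup.map ψ t) (t2 := Matrix.SpecialLinearGroup.map ψ t')
      (by rw [← map_mul, ← map_mul]; exact fun h => hne (hinj h)) (hmap t hp1) (hmap t' hp2) (hmem t ht) (hmem t' ht')
      (hrel t) (hrel t') hB
  -- the involution
  have hz0 : c.pa t ^ 3 = c.z0 := by
    rw [← map_pow, cube_eq hp1]
    show c.pa (-1) = c.pa (dg (-1) _)
    rw [dg_neg_one]
  have hle : H ≤ Subgroup.centralizer ({c.z0} : Set ↥(twistedD4 K q)) := by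
    intro g hg
    rw [Subgroup.mem_centralizer_singleton_iff, ← hz0]
    apply Subtype.ext
    exact key g ⟨g, hg, rfl⟩
  -- the index
  obtain ⟨u, hu⟩ := isConj_iff.1 c.isConj_z0
  have hidx : (Subgroup.centralizer ({c.z0} : Set ↥(twistedD4 K q))).index =
      (Subgroup.centralizer ({c.z} : Set ↥(twistedD4 K q))).index := by
    have h1 : Subgroup.centralizer ({c.z0} : Set ↥(twistedD4 K q)) =
        (Subgroup.centralizer ({c.z} : Set ↥(twistedD4 K q))).map (MulAut.conj u).toMonoidHom := by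
      ext g
      rw [Subgroup.mem_map]
      constructor
      · intro hg
        rw [Subgroup.mem_centralizer_singleton_iff] at hg
        refine ⟨u⁻¹ * g * u, ?_, ?_⟩
        · rw [Subgroup.mem_centralizer_singleton_iff]
          have h2 : c.z = u⁻¹ * c.z0 * u := by rw [← hu]; group
          rw [h2]
          calc u⁻¹ * g * u * (u⁻¹ * c.z0 * u) = u⁻¹ * (g * c.z0) * u := by group
            _ = u⁻¹ * (c.z0 * g) * u := by rw [hg]
            _ = _ := by group
        · show u * (u⁻¹ * g * u) * u⁻¹ = g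
          group
      · rintro ⟨g, hg, rfl⟩
        have hg' := Subgroup.mem_centralizer_singleton_iff.1 hg
        rw [Subgroup.mem_centralizer_singleton_iff]
        show u * g * u⁻¹ * c.z0 = c.z0 * (u * g * u⁻¹)
        rw [← hu]
        calc u * g * u⁻¹ * (u * c.z * u⁻¹) = u * (g * c.z) * u⁻¹ := by group
          _ = u * (c.z * g) * u⁻¹ := by rw [hg']
          _ = _ := by group
    rw [h1]
    exact Subgroup.index_map_equiv _ (MulAut.conj u)
  have h3d : 3 ∣ H.index := by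
    have h1 := three_dvd hq hK h2 h3 hσ c
    rw [← hidx] at h1
    exact h1.trans (Subgroup.index_dvd_of_le hle)
  exact hH.2 3 Nat.prime_three p3 h3d

/-- **R5 for `³D₄(q)`** -/
theorem not_DB_d4 {S : Type*} [Group S] {K : Type} [Field K] [Fintype K] {p : ℕ} (hp : p.Prime) [CharP K p]
    {q : ℕ} (hq : IsPrimePow q) (hK : Fintype.card K = q ^ 3) {π : Set ℕ} (p2 : 2 ∈ π) (p3 : 3 ∈ π) (pp : p ∉ π)
    (e : Nonempty (S ≃* ↥(twistedD4 K q))) : ¬ DB π S := by
  intro h
  have : Fact p.Prime := ⟨hp⟩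
  have h5 : 5 ≤ p := by
    have h1 : p ≠ 2 := fun h => pp (h ▸ p2)
    have h3 : p ≠ 3 := fun h => pp (h ▸ p3)
    have h4 : p ≠ 4 := fun h => by rw [h] at hp; exact absurd hp (by norm_num)
    have := hp.two_le
    omega
  obtain ⟨e⟩ := e
  exact main h5 hq hK p2 p3 pp (H808.RV.DB.congr e h)

end Cfsg.Agent.H641.RV
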